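import Groth.Agent.RegLoc6.Seq
import Mathlib.RingTheory.KrullDimension.Regular

/-! Minimal generators of the maximal ideal of a regular local ring. -/

namespace Groth.Agent.CAlgGlobalDim

open IsLocalRing RingTheory.Sequence Groth.Agent.RegLoc6

universe u

theorem isWeaklyRegular_of_generators : ∀ (k : ℕ) (A : Type u) [CommRing A] [IsRegularLocalRing A]
    (rs : List A), rs.length = k → Ideal.ofList rs = maximalIdeal A →
      k ≤ (maximalIdeal A).spanFinrank → IsWeaklyRegular A rs := by
  intro k
  induction k with
  | zero =>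
    intro A _ _ rs hlen _ _
    rw [List.length_eq_zero_iff.1 hlen]
    exact IsWeaklyRegular.nil A A
  | succ k ih =>
    intro A _ _ rs hlen hspan hk
    obtain ⟨x, rs', rfl⟩ : ∃ x rs', rs = x :: rs' := by
      match rs, hlen with
      | x :: rs', _ => exact ⟨x, rs', rfl⟩
    simp only [List.length_cons, Nat.add_right_cancel_iff] at hlen
    have hxm : x ∈ maximalIdeal A := hspan ▸ Ideal.subset_span List.mem_cons_self
    have hx2 : x ∉ maximalIdeal A ^ 2 := by
      intro hx
      have hle : maximalIdeal A ≤ Ideal.ofList rs' := by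
        refine Submodule.le_of_le_smul_of_le_jacobson_bot (maximalIdeal A).fg_of_isNoetherianRing
          (IsLocalRing.maximalIdeal_le_jacobson _) ?_
        rw [smul_eq_mul, ← sq]
        conv_lhs => rw [← hspan, Ideal.ofList_cons]
        exact sup_le (le_sup_of_le_right ((Ideal.span_singleton_le_iff_mem _).2 hx)) le_sup_left
      have hge : Ideal.ofList rs' ≤ maximalIdeal A := by
        rw [← hspan, Ideal.ofList_cons]
        exact le_sup_right
      have hfin : {r : A | r ∈ rs'}.Finite := rs'.finite_toSet
      have hcard : (maximalIdeal A).spanFinrank ≤ k := by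
        rw [le_antisymm hle hge]
        refine (Submodule.spanFinrank_span_le_ncard_of_finite hfin).trans ?_
        classical
        rw [show {r : A | r ∈ rs'} = ↑rs'.toFinset from (List.coe_toFinset _).symm, Set.ncard_coe_finset,
          ← hlen]
        exact rs'.toFinset_card_le
      omega
    haveI := isLocalRing_quot hxm
    haveI := (isRegularLocalRing_quot_and hxm hx2).1
    rw [isWeaklyRegular_cons_quot_iff]
    refine ⟨isSMulRegular_of_notMem_sq hx2,
      ih (A ⧸ Ideal.span {x}) (rs'.map (Ideal.Quotient.mk (Ideal.span {x}))) (by simpa using hlen) ?_ ?_⟩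
    · rw [← Ideal.map_ofList, ← map_maximalIdeal_quot (Ideal.span {x}), ← hspan, Ideal.ofList_cons,
        Ideal.map_sup, Ideal.map_quotient_self, bot_sup_eq]
    · have := spanFinrank_le_quot hxm
      omega

theorem spanFinrank_eq_of_dim (R : Type u) [CommRing R] [IsRegularLocalRing R] (d : ℕ)
    (hd : ringKrullDim R = d) : (maximalIdeal R).spanFinrank = d := by
  have h1 := (isRegularLocalRing_iff R).mp inferInstance
  rw [hd] at h1
  exact_mod_cast h1

theorem ofList_ofFn {R : Type u} [CommRing R] {d : ℕ} (x : Fin d → R) :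
    Ideal.ofList (List.ofFn x) = Ideal.span (Set.range x) :=
  congrArg Ideal.span (Set.ext fun _ => List.mem_ofFn)

theorem exists_extend (R : Type u) [CommRing R] [IsRegularLocalRing R] (d : ℕ)
    (hd : ringKrullDim R = d) (I : Ideal R) [IsRegularLocalRing (R ⧸ I)] :
    ∃ (x : Fin d → R) (c : ℕ) (hc : c ≤ d), Ideal.span (Set.range x) = maximalIdeal R ∧
      I = Ideal.span (Set.range (fun i : Fin c => x (Fin.castLE hc i))) := by
  classical
  obtain ⟨rs, hmem, hreg, hrs⟩ := exists_list_of_quotient _ R I le_rfl inferInstance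
  have hdim := ringKrullDim_add_length_eq_ringKrullDim_of_isRegular rs (isRegular_iff_weakly rs hmem hreg)
  rw [hrs, hd, ← (isRegularLocalRing_iff (R ⧸ I)).mp inferInstance] at hdim
  have hlen : (maximalIdeal (R ⧸ I)).spanFinrank + rs.length = d := by exact_mod_cast hdim
  -- lift generators of the maximal ideal of the quotient
  have fin := Submodule.FG.finite_generators (maximalIdeal (R ⧸ I)).fg_of_isNoetherianRing
  let g : Finset (R ⧸ I) := fin.toFinset
  let ys : List R := g.toList.map (Function.surjInv (Ideal.Quotient.mk_surjective (I := I)))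
  have hys : ys.length + rs.length = d := by
    rw [List.length_map, Finset.length_toList, ← Set.ncard_eq_toFinset_card _ fin,
      Submodule.FG.generators_ncard (maximalIdeal (R ⧸ I)).fg_of_isNoetherianRing, hlen]
  have hgen : Ideal.ofList (rs ++ ys) = maximalIdeal R := by
    have hIle : I ≤ maximalIdeal R := hrs ▸ Ideal.span_le.2 hmem
    have hmap : (Ideal.ofList ys).map (Ideal.Quotient.mk I) = (maximalIdeal R).map (Ideal.Quotient.mk I) := by
      rw [Ideal.map_ofList, map_maximalIdeal_quot, List.map_map, ← (maximalIdeal (R ⧸ I)).span_generators]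
      refine congrArg Ideal.span ?_
      ext z
      simp [Function.comp_def, Function.surjInv_eq, g]
    have h2 := congrArg (Ideal.comap (Ideal.Quotient.mk I)) hmap
    rw [Ideal.comap_map_of_surjective _ Ideal.Quotient.mk_surjective,
      Ideal.comap_map_of_surjective _ Ideal.Quotient.mk_surjective, ← RingHom.ker_eq_comap_bot,
      Ideal.mk_ker, sup_eq_left.2 hIle] at h2
    rw [Ideal.ofList_append, hrs, sup_comm, h2]
  have hl : (rs ++ ys).length = d := by rw [List.length_append]; omega
  refine ⟨fun i => (rs ++ ys).get (i.cast hl.symm), rs.length, by omega, ?_, ?_⟩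
  · rw [← hgen]
    refine congrArg Ideal.span (Set.ext fun z => ?_)
    simp only [Set.mem_range, Set.mem_ofPred_eq, List.mem_iff_get]
    exact ⟨fun ⟨i, hi⟩ => ⟨_, hi⟩, fun ⟨i, hi⟩ => ⟨i.cast hl, by simpa using hi⟩⟩
  · refine hrs.symm.trans (congrArg Ideal.span (Set.ext fun z => ?_))
    simp only [Set.mem_range, Set.mem_ofPred_eq, List.mem_iff_get]
    constructor
    · rintro ⟨i, rfl⟩
      exact ⟨i, by simp [List.getElem_append]⟩
    · rintro ⟨i, rfl⟩
      exact ⟨i, by simp [List.getElem_append]⟩

end Groth.Agent.CAlgGlobalDim
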