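import Mathlib.Algebra.Category.ModuleCat.InjectiveDimension
import Mathlib.Algebra.Module.Injective
import Mathlib.CategoryTheory.Abelian.Projective.Dimension
import Mathlib.Algebra.Category.ModuleCat.Ext.HasExt

/-! Auslander: the global dimension is detected on cyclic modules. -/

namespace Groth.Agent.CAlgGlobalDim

open CategoryTheory Abelian

universe u

variable {R : Type u} [CommRing R]

theorem baer_of_ext_one (N : ModuleCat.{u} R)
    (h : ∀ I : Ideal R, Subsingleton (Ext (ModuleCat.of R (R ⧸ I)) N 1)) :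
    Module.Baer R N := by
  intro I g
  let S := (Submodule.mkQ I).shortComplexKer
  have hS : S.ShortExact := LinearMap.shortExact_shortComplexKer (Submodule.mkQ_surjective I)
  let e : LinearMap.ker I.mkQ ≃ₗ[R] I := LinearEquiv.ofEq _ _ (Submodule.ker_mkQ I)
  let g' : S.X₁ ⟶ N := ModuleCat.ofHom (g ∘ₗ e.toLinearMap)
  obtain ⟨φ, hφ⟩ := Ext.contravariant_sequence_exact₁ hS N (Ext.mk₀ g') (add_zero 1)
    (@Subsingleton.elim _ (h I) _ _)
  obtain ⟨ψ, rfl⟩ := (Ext.mk₀_bijective S.X₂ N).2 φ
  rw [Ext.mk₀_comp_mk₀, (Ext.mk₀_bijective _ _).1.eq_iff] at hφ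
  refine ⟨ψ.hom, fun x hx => ?_⟩
  have := congrArg (fun k => k.hom (e.symm ⟨x, hx⟩)) hφ
  have h2 : g (e (e.symm ⟨x, hx⟩)) = g ⟨x, hx⟩ := by rw [LinearEquiv.apply_symm_apply]
  exact this.trans h2

theorem hasInjectiveDimensionLE_of_ext_cyclic (n : ℕ) : ∀ N : ModuleCat.{u} R,
    (∀ I : Ideal R, Subsingleton (Ext (ModuleCat.of R (R ⧸ I)) N (n + 1))) →
      HasInjectiveDimensionLE N n := by
  induction n with
  | zero =>
    intro N h
    have : Module.Injective R N := (baer_of_ext_one N h).injective
    have : Injective N := Module.injective_object_of_injective_module R N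
    exact (injective_iff_hasInjectiveDimensionLT_one (X := N)).1 this
  | succ n ih =>
    intro N h
    obtain ⟨J, hJ, f, hf⟩ := EnoughInjectives.presentation N
    let S := ShortComplex.mk f (Limits.cokernel.π f) (Limits.cokernel.condition f)
    have hS : S.ShortExact := { exact := ShortComplex.exact_cokernel f }
    refine (hS.hasInjectiveDimensionLT_X₃_iff n hJ).1 (ih S.X₃ fun I => ?_)
    refine subsingleton_of_forall_eq 0 fun x => ?_
    obtain ⟨y, rfl⟩ := Ext.covariant_sequence_exact₃ _ hS x rfl (@Subsingleton.elim _ (h I) _ _)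
    have hy : y = 0 := Ext.eq_zero_of_injective y
    rw [hy, Ext.zero_comp]

theorem hasProjectiveDimensionLT_of_forall_cyclic (d : ℕ)
    (h : ∀ I : Ideal R, HasProjectiveDimensionLE (ModuleCat.of R (R ⧸ I)) d) (M : ModuleCat.{u} R) :
    HasProjectiveDimensionLE M d := by
  have hN : ∀ N : ModuleCat.{u} R, HasInjectiveDimensionLE N d := fun N =>
    hasInjectiveDimensionLE_of_ext_cyclic d N fun I =>
      haveI := h I
      HasProjectiveDimensionLT.subsingleton _ (d + 1) (d + 1) le_rfl N
  refine HasProjectiveDimensionLT.mk fun i hi Y e => ?_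
  haveI := hN Y
  exact e.eq_zero_of_hasInjectiveDimensionLT (d + 1) hi

end Groth.Agent.CAlgGlobalDim
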